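import Groth.Agent.Lib.ClopenDec11.Basic
import Groth.Agent.Lib.FibTriv28.Fibre
import Groth.Agent.Lib.ASBun21.Summands
import Groth.Agent.Lib.OX.FlatLocFree
import Groth.Agent.Lib.OX.OneDegLocus
import Groth.Agent.Lib.QCoh.DevissageSummands

/-!
# A locally free complement making the rank constant
-/

set_option autoImplicit false
set_option linter.style.haveILetI false
set_option backward.isDefEq.respectTransparency false
universe u

open CategoryTheory CategoryTheory.Limits AlgebraicGeometry TopologicalSpace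
open GrothLib.QCoh (stalkLin)

noncomputable section

namespace GrothLib.ExtLocFree8

attribute [local instance] Abelian.hasFiniteBiproducts

open scoped ZeroObject

variable {X : Scheme.{u}}

theorem stalkLin_zero_apply {A B : X.Modules} (x : X) (v : A.presheaf.stalk x) : stalkLin (0 : A ⟶ B) x v = 0 := by
  obtain ⟨U, hU, s, rfl⟩ := TopCat.Presheaf.exists_germ_eq A.presheaf v
  rw [QCoh.stalkLin_germ]
  exact map_zero _

/-- The stalk of a biproduct. -/
def stalkBiprodEquiv (A B : X.Modules) (x : X) :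
    (A ⊞ B).presheaf.stalk x ≃ₗ[X.presheaf.stalk x] A.presheaf.stalk x × B.presheaf.stalk x :=
  { LinearMap.prod (stalkLin (biprod.fst : A ⊞ B ⟶ A) x) (stalkLin (biprod.snd : A ⊞ B ⟶ B) x) with
    invFun := fun p => stalkLin (biprod.inl : A ⟶ A ⊞ B) x p.1 + stalkLin (biprod.inr : B ⟶ A ⊞ B) x p.2
    left_inv := fun e => QCoh.biprod_stalk_total A B x e
    right_inv := fun p => by
      refine Prod.ext ?_ ?_
      · show stalkLin (biprod.fst : A ⊞ B ⟶ A) x (_ + _) = p.1
        rw [map_add, ← QCoh.stalkLin_comp, ← QCoh.stalkLin_comp, biprod.inl_fst, biprod.inr_fst,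
          QCoh.stalkLin_id, stalkLin_zero_apply, add_zero]
      · show stalkLin (biprod.snd : A ⊞ B ⟶ B) x (_ + _) = p.2
        rw [map_add, ← QCoh.stalkLin_comp, ← QCoh.stalkLin_comp, biprod.inl_snd, biprod.inr_snd,
          QCoh.stalkLin_id, stalkLin_zero_apply, zero_add] }

theorem isFinLocFree_biprod [IsLocallyNoetherian X] {A B : X.Modules} (hA : FlatMod.IsFinLocFree A)
    (hB : FlatMod.IsFinLocFree B) : FlatMod.IsFinLocFree (A ⊞ B) := by
  have hc := QCoh.isCoh_biprod' (Euler.isCoh_of_isFinLocFree hA) (Euler.isCoh_of_isFinLocFree hB)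
  refine (Ref1.isFinLocFree_iff_free (HomSh.hasRel_of_isCoh hc)).2 fun x => ?_
  haveI := (Ref1.isFinLocFree_iff_free (HomSh.hasRel_of_isCoh (Euler.isCoh_of_isFinLocFree hA))).1 hA x
  haveI := (Ref1.isFinLocFree_iff_free (HomSh.hasRel_of_isCoh (Euler.isCoh_of_isFinLocFree hB))).1 hB x
  exact Module.Free.of_equiv (stalkBiprodEquiv A B x).symm

theorem rk_biprod {A B : X.Modules} (hA : FlatMod.IsFinLocFree A) (hB : FlatMod.IsFinLocFree B) (x : X) :
    FibTriv28.rk (A ⊞ B) x = FibTriv28.rk A x + FibTriv28.rk B x := by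
  obtain ⟨U, hx, h⟩ := FibTriv28.exists_nhd_rk hA x
  obtain ⟨V, hx', h'⟩ := FibTriv28.exists_nhd_rk hB x
  obtain ⟨_, _, -⟩ := h x hx
  obtain ⟨_, _, -⟩ := h' x hx'
  exact (stalkBiprodEquiv A B x).finrank_eq.trans Module.finrank_prod

theorem rk_part_of_mem {S : Clopens X} (F : X.Modules) {x : X} (hx : x ∈ S) :
    FibTriv28.rk (ClopenDec11.part S F) x = FibTriv28.rk F x :=
  (LinearEquiv.ofBijective (stalkLin (ClopenDec11.inc S F) x)
    ⟨QCoh.stalkLin_injective _ x, fun v => ⟨stalkLin (ClopenDec11.prj S F) x v, by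
      rw [← QCoh.stalkLin_comp, ClopenDec11.prj_inc, ClopenDec11.stalkLin_idem_of_mem hx]⟩⟩).finrank_eq

theorem rk_part_of_notMem {S : Clopens X} (F : X.Modules) {x : X} (hx : x ∉ S) :
    FibTriv28.rk (ClopenDec11.part S F) x = 0 := by
  haveI := ClopenDec11.subsingleton_stalk_part F hx
  exact Module.finrank_zero_of_subsingleton

theorem isFinLocFreeOfRank_of_rk {M : X.Modules} (hM : FlatMod.IsFinLocFree M) {N : ℕ}
    (h : ∀ x, FibTriv28.rk M x = N) : FlatMod.IsFinLocFreeOfRank N M := fun x => by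
  obtain ⟨U, n, hx, ⟨φ⟩⟩ := hM x
  obtain ⟨e, he⟩ := FinCov.exists_frame_of_iso φ
  obtain ⟨b⟩ := Euler.stalk_basis_of_frame he (show x ∈ U.ι ''ᵁ ⊤ by rw [Scheme.Opens.ι_image_top]; exact hx)
  have hn : n = N := by
    rw [← h x]
    exact (Fintype.card_fin n).symm.trans (Module.finrank_eq_card_basis b).symm
  exact ⟨U, hx, ⟨hn ▸ φ⟩⟩

/-- Adding a finite locally free module to make the rank constant. -/
theorem exists_complement_aux [IsNoetherian X] (N : ℕ) : ∀ (d : ℕ) (E : X.Modules), FlatMod.IsFinLocFree E →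
    (∀ x, FibTriv28.rk E x ≤ N ∧ N ≤ FibTriv28.rk E x + d) →
    ∃ C : X.Modules, Coh.IsCoh C ∧ FlatMod.IsFinLocFreeOfRank N (E ⊞ C) := by
  intro d
  induction d with
  | zero =>
    intro E hE h
    let C : X.Modules := FlatMod.freeMod X 0
    have hC : FlatMod.IsFinLocFree C := OX.isFinLocFree_freeMod X 0
    refine ⟨C, Euler.isCoh_of_isFinLocFree hC, isFinLocFreeOfRank_of_rk (isFinLocFree_biprod hE hC) fun x => ?_⟩
    rw [rk_biprod hE hC, FibTriv28.rk_freeMod, add_zero]
    have := h x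
    omega
  | succ d ih =>
    intro E hE h
    let S : Clopens X := ⟨(FibTriv28.rk E) ⁻¹' {r | r < N},
      ⟨⟨FibTriv28.isLocallyConstant_rk hE {r | r < N}ᶜ⟩, FibTriv28.isLocallyConstant_rk hE {r | r < N}⟩⟩
    let P := ClopenDec11.part S (FlatMod.freeMod X 1)
    have hP : FlatMod.IsFinLocFree P :=
      ASBun21.isFinLocFree_of_retract _ _ (ClopenDec11.inc_prj S _) (OX.isFinLocFree_freeMod X 1)
    have hEP := isFinLocFree_biprod hE hP
    obtain ⟨C, hC, hC'⟩ := ih (E ⊞ P) hEP fun x => by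
      rw [rk_biprod hE hP]
      by_cases hx : x ∈ S
      · have hlt : FibTriv28.rk E x < N := hx
        rw [rk_part_of_mem _ hx, FibTriv28.rk_freeMod]
        have := h x
        omega
      · have hlt : ¬ FibTriv28.rk E x < N := hx
        rw [rk_part_of_notMem _ hx]
        have := h x
        omega
    exact ⟨P ⊞ C, QCoh.isCoh_biprod' (Euler.isCoh_of_isFinLocFree hP) hC,
      OX.isFinLocFreeOfRank_of_iso (biprod.associator E P C) hC'⟩

theorem exists_complement [IsNoetherian X] {E : X.Modules} (hE : FlatMod.IsFinLocFree E) :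
    ∃ (N : ℕ) (C : X.Modules), Coh.IsCoh C ∧ FlatMod.IsFinLocFreeOfRank N (E ⊞ C) := by
  obtain ⟨N, hN⟩ := (FibTriv28.isLocallyConstant_rk hE).range_finite.bddAbove
  exact ⟨N, exists_complement_aux N N E hE fun x => ⟨hN ⟨x, rfl⟩, Nat.le_add_left _ _⟩⟩

end GrothLib.ExtLocFree8
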