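import Mathlib.AlgebraicGeometry.Morphisms.Proper
import Mathlib.AlgebraicGeometry.Morphisms.SchemeTheoreticallyDominant
import Groth.Agent.Lib.Nagata6.GlueMutual

/-!
# Quasi-dominations from maps of compactifications
-/

set_option autoImplicit false
set_option backward.isDefEq.respectTransparency false
universe u

open CategoryTheory CategoryTheory.Limits AlgebraicGeometry

namespace GrothLib.ExtLocFree8

/-- A proper map to a compactification gives a proper quasi-domination with closed graph. -/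
theorem exists_quasiDomination {S X Y Yc U : Scheme.{u}} (p : X ⟶ S) [IsSeparated p] (k : U ⟶ X)
    [IsSchemeTheoreticallyDominant k] [QuasiCompact k] (q : Y ⟶ S) (c : Y ⟶ Yc) [IsOpenImmersion c]
    (g : Yc ⟶ S) (hc : c ≫ g = q) (ρ : X ⟶ Yc) [IsProper ρ] (hρ : ρ ≫ g = p) (j : U ⟶ Y) (hj : k ≫ ρ = j ≫ c) :
    ∃ (W : X.Opens) (φ : (↑W : Scheme.{u}) ⟶ Y) (hφ : W.ι ≫ p = φ ≫ q) (l : U ⟶ ↑W),
      IsSchemeTheoreticallyDominant W.ι ∧ IsProper φ ∧ l ≫ W.ι = k ∧ l ≫ φ = j ∧
      IsClosed (Set.range (fun w => (Limits.pullback.lift W.ι φ hφ) w)) := by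
  let O := c.opensRange
  let W := ρ ⁻¹ᵁ O
  let φ : (W : Scheme.{u}) ⟶ Y := (ρ ∣_ O) ≫ c.isoOpensRange.inv
  have hφc : φ ≫ c = W.ι ≫ ρ := by
    simp only [φ, Category.assoc, Scheme.Hom.isoOpensRange_inv_comp]
    exact morphismRestrict_ι ρ O
  have hφ : W.ι ≫ p = φ ≫ q := by rw [← hc, reassoc_of% hφc, hρ]
  haveI : IsProper (ρ ∣_ O) := IsZariskiLocalAtTarget.restrict ‹_› O
  haveI : IsProper φ := inferInstance
  have hr : Set.range k ⊆ Set.range W.ι := by
    rw [Scheme.Opens.range_ι]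
    rintro _ ⟨x, rfl⟩
    show ρ (k x) ∈ c.opensRange
    rw [← Scheme.Hom.comp_apply, hj, Scheme.Hom.comp_apply]
    exact ⟨j x, rfl⟩
  let l := IsOpenImmersion.lift W.ι k hr
  have hl : l ≫ W.ι = k := IsOpenImmersion.lift_fac _ _ _
  obtain ⟨hld, hlq⟩ := Nagata6.dominant_of_factor k W l hl
  refine ⟨W, φ, hφ, l, ⟨by have := k.ker_eq_bot; rwa [← hl, Scheme.Hom.ker_comp, hld.ker_eq_bot, Scheme.IdealSheafData.map_bot] at this⟩, inferInstance, hl, ?_, ?_⟩
  · rw [← cancel_mono c, Category.assoc, hφc, reassoc_of% hl, hj]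
  · let Γ' := Limits.pullback.lift W.ι φ hφ
    haveI : IsSeparated (Limits.pullback.snd p q) := MorphismProperty.pullback_snd p q inferInstance
    haveI : IsProper (Γ' ≫ Limits.pullback.snd p q) := by rw [Limits.pullback.lift_snd]; infer_instance
    haveI : IsProper Γ' := IsProper.of_comp Γ' (Limits.pullback.snd p q)
    exact Γ'.isClosedMap.isClosed_range

end GrothLib.ExtLocFree8
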