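import Groth.Agent.Lib.ExtLocFree8.Step
import Groth.Agent.S9708
import Groth.Agent.Lib.OX.LocFreeTensor

/-!
# Extending a finite family of locally free modules
-/

set_option autoImplicit false
set_option linter.style.haveILetI false
set_option backward.isDefEq.respectTransparency false
universe v u

open CategoryTheory CategoryTheory.Limits AlgebraicGeometry TopologicalSpace

noncomputable section

namespace GrothLib.ExtLocFree8

variable {X Y : Scheme.{u}}

/-- A finite family of locally free modules on a dense open extends after a projective modification. -/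
theorem exists_family [IsNoetherian Y] (j : X ⟶ Y) [IsOpenImmersion j] [IsSchemeTheoreticallyDominant j]
    {ι : Type v} [Finite ι] (E : ι → X.Modules) (hE : ∀ i, FlatMod.IsFinLocFree (E i)) :
    ∃ (Y' : Scheme.{u}) (b : Y' ⟶ Y) (j' : X ⟶ Y'), IsProper b ∧
      (∀ {S : Scheme.{u}} [CompactSpace S] [QuasiSeparatedSpace S] (g : Y ⟶ S),
        RelProj.IsProjective g → RelProj.IsProjective (b ≫ g)) ∧
      IsOpenImmersion j' ∧ QuasiCompact j' ∧ IsSchemeTheoreticallyDominant j' ∧ j' ≫ b = j ∧
      ∀ i, ∃ E' : Y'.Modules, FlatMod.IsFinLocFree E' ∧ Nonempty ((Scheme.Modules.pullback j').obj E' ≅ E i) := by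
  classical
  letI := Fintype.ofFinite ι
  suffices h : ∀ s : Finset ι, ∃ (Y' : Scheme.{u}) (b : Y' ⟶ Y) (j' : X ⟶ Y'), IsProper b ∧
      (∀ {S : Scheme.{u}} [CompactSpace S] [QuasiSeparatedSpace S] (g : Y ⟶ S),
        RelProj.IsProjective g → RelProj.IsProjective (b ≫ g)) ∧
      IsOpenImmersion j' ∧ QuasiCompact j' ∧ IsSchemeTheoreticallyDominant j' ∧ j' ≫ b = j ∧
      ∀ i ∈ s, ∃ E' : Y'.Modules, FlatMod.IsFinLocFree E' ∧
        Nonempty ((Scheme.Modules.pullback j').obj E' ≅ E i) by
    obtain ⟨Y', b, j', h1, h2, h3, h4, h5, h6, h7⟩ := h Finset.univ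
    exact ⟨Y', b, j', h1, @h2, h3, h4, h5, h6, fun i => h7 i (Finset.mem_univ i)⟩
  intro s
  induction s using Finset.induction_on with
  | empty => exact ⟨Y, 𝟙 Y, j, inferInstance, fun g hg => by rwa [Category.id_comp], inferInstance, inferInstance,
      inferInstance, Category.comp_id j, by simp⟩
  | insert a s ha ih =>
    obtain ⟨Y₁, b₁, j₁, h1, h2, h3, h4, h5, h6, h7⟩ := ih
    haveI : IsLocallyNoetherian Y₁ := LocallyOfFiniteType.isLocallyNoetherian b₁
    haveI : CompactSpace Y₁ := QuasiCompact.compactSpace_of_compactSpace b₁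
    haveI : IsNoetherian Y₁ := {}
    obtain ⟨Y', b, j', hb, hj'o, hj'd, hj', E', hE', ⟨e'⟩⟩ := exists_step j₁ (hE a)
    haveI : IsProper b := ProjAlg.isProper_of_isProjective hb
    haveI : IsLocallyNoetherian Y' := LocallyOfFiniteType.isLocallyNoetherian b
    haveI : CompactSpace Y' := QuasiCompact.compactSpace_of_compactSpace b
    haveI : IsNoetherian Y' := {}
    refine ⟨Y', b ≫ b₁, j', inferInstance, fun g hg => ?_, hj'o, inferInstance, hj'd,
      by rw [← Category.assoc, hj', h6], fun i hi => ?_⟩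
    · rw [Category.assoc]
      exact Groth.Agent.S9708.result b _ hb (h2 g hg)
    · obtain rfl | hi := Finset.mem_insert.1 hi
      · exact ⟨E', hE', ⟨e'⟩⟩
      · obtain ⟨E₁, hE₁, ⟨e₁⟩⟩ := h7 i hi
        exact ⟨(Scheme.Modules.pullback b).obj E₁, OX.isFinLocFree_pullback b hE₁,
          ⟨(Scheme.Modules.pullbackComp j' b).app E₁ ≪≫ (Scheme.Modules.pullbackCongr hj').app E₁ ≪≫ e₁⟩⟩

end GrothLib.ExtLocFree8
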