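import Groth.Agent.Lib.StrictTr.Basic
import Groth.Agent.Lib.ModDesc.Basic
import Groth.Agent.Lib.QCoh.SupportExact
import Groth.Agent.Lib.BlowUp.Universal
import Groth.Agent.Lib.FinCov.Frame
import Groth.Agent.Lib.Depth.HartogsUnit
import Groth.Prelude.Def_CInt
import Mathlib.RingTheory.Noetherian.Nilpotent

/-!
# Existence of strict transforms; schematic density and locally free modules
-/

set_option autoImplicit false
set_option linter.style.haveILetI false
set_option backward.isDefEq.respectTransparency false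
universe u

open CategoryTheory CategoryTheory.Limits AlgebraicGeometry TopologicalSpace Opposite

noncomputable section

namespace GrothLib.ExtLocFree8

variable {X : Scheme.{u}}

theorem map_map_sec (M : X.Modules) {A B C : X.Opens} (h : B ≤ A) (h' : C ≤ B) (s : Γ(M, A)) :
    M.presheaf.map (homOfLE h').op (M.presheaf.map (homOfLE h).op s) = M.presheaf.map (homOfLE (h'.trans h)).op s := by
  rw [← ConcreteCategory.comp_apply, ← M.presheaf.map_comp]
  rfl

/-- Sections of a locally free module are determined on a schematically dense open. -/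
theorem eq_zero_of_restrict_eq_zero {G : X.Modules} (hG : FlatMod.IsFinLocFree G) {U : X.Opens}
    (hU : CInt.IsSchematicallyDense U) {V : X.Opens} (s : Γ(G, V))
    (hs : G.presheaf.map (homOfLE (inf_le_left : V ⊓ U ≤ V)).op s = 0) : s = 0 := by
  choose W n e hxW he using fun x : V => FinCov.exists_frame_nhd hG x.1
  refine TopCat.Sheaf.eq_of_locally_eq' ⟨G.presheaf, G.isSheaf⟩ (fun x : V => V ⊓ W x) V (fun x => homOfLE inf_le_left)
    (fun y hy => Opens.mem_iSup.2 ⟨⟨y, hy⟩, hy, hxW _⟩) _ _ fun x => ?_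
  show G.presheaf.map (homOfLE (inf_le_left : V ⊓ W x ≤ V)).op s = G.presheaf.map (homOfLE (inf_le_left : V ⊓ W x ≤ V)).op 0
  rw [map_zero]
  obtain ⟨c, hc⟩ := (he x (V ⊓ W x) inf_le_right).surjective (G.presheaf.map (homOfLE (inf_le_left : V ⊓ W x ≤ V)).op s)
  simp only at hc
  have hle : V ⊓ W x ⊓ U ≤ V ⊓ U := inf_le_inf_right U inf_le_left
  have h0 : ∑ i, (X.presheaf.map (homOfLE (inf_le_left : V ⊓ W x ⊓ U ≤ V ⊓ W x)).op).hom (c i) •
      G.presheaf.map (homOfLE (inf_le_left.trans inf_le_right : V ⊓ W x ⊓ U ≤ W x)).op (e x i) = 0 := by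
    have h1 := congrArg (G.presheaf.map (homOfLE (inf_le_left : V ⊓ W x ⊓ U ≤ V ⊓ W x)).op) hc
    rw [map_sum, map_map_sec, ← map_map_sec G inf_le_left hle, hs, map_zero] at h1
    refine Eq.trans (Finset.sum_congr rfl fun i _ => ?_) h1
    rw [Scheme.Modules.map_smul, map_map_sec]
  have hc0 : (fun i => (X.presheaf.map (homOfLE (inf_le_left : V ⊓ W x ⊓ U ≤ V ⊓ W x)).op).hom (c i)) = 0 :=
    (he x (V ⊓ W x ⊓ U) (inf_le_left.trans inf_le_right)).injective (h0.trans (by simp))
  have : c = 0 := funext fun i => hU (V ⊓ W x) ((congrFun hc0 i).trans (map_zero _).symm)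
  rw [← hc, this]
  simp

/-- A map into a locally free module is zero if it vanishes on a schematically dense open. -/
theorem hom_eq_zero_of_isZero_restrict {K G : X.Modules} (hG : FlatMod.IsFinLocFree G) {U : X.Opens}
    (hU : CInt.IsSchematicallyDense U) (hK : IsZero (K.restrict U.ι)) (f : K ⟶ G) : f = 0 := by
  refine Scheme.Modules.hom_ext _ _ fun V => ?_
  ext s
  refine (eq_zero_of_restrict_eq_zero hG hU _ ?_).trans rfl
  have hsub : ∀ t : Γ(K, V ⊓ U), t = 0 := by
    have hz : ∀ (T : U.toScheme.Opens) (t : Γ(K.restrict U.ι, T)), t = 0 := fun T t => by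
      rw [IsZero.iff_id_eq_zero] at hK
      have := congrArg (fun g : K.restrict U.ι ⟶ K.restrict U.ι => g.app T t) hK
      exact this
    intro t
    have he : U.ι ''ᵁ (U.ι ⁻¹ᵁ V) = V ⊓ U := Depth.image_preimage_eq_inf U V
    have h2 := hz (U.ι ⁻¹ᵁ V) (K.presheaf.map (homOfLE he.le).op t)
    have h3 := congrArg (K.presheaf.map (homOfLE he.ge).op) h2
    rw [map_zero] at h3
    rw [← h3]
    exact ((map_map_sec K he.le he.ge t).trans (ConcreteCategory.congr_hom (K.presheaf.map_id _) t)).symm
  refine (congr($(f.mapPresheaf.naturality (homOfLE (inf_le_left : V ⊓ U ≤ V)).op) s)).symm.trans ?_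
  exact (congrArg (f.app (V ⊓ U)) (hsub _)).trans (map_zero _)

/-- The strict transform along the complement of a divisor. -/
theorem exists_isStrictTransform {Y : Scheme.{u}} [IsNoetherian Y] (b : Y ⟶ X) (I : X.IdealSheafData)
    (F : X.Modules) [((Scheme.Modules.pullback b).obj F).IsQuasicoherent] :
    ∃ (G : Y.Modules) (π : (Scheme.Modules.pullback b).obj F ⟶ G), BlowUp.IsStrictTransform b I F G π := by
  let M := (Scheme.Modules.pullback b).obj F
  let E := I.comap b
  let W : Y.Opens := E.support.compl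
  let η : M ⟶ (Scheme.Modules.pushforward W.ι).obj (M.restrict W.ι) := (Scheme.Modules.restrictAdjunction W.ι).unit.app M
  refine ⟨Limits.image η, factorThruImage η, inferInstance, fun V m => ?_⟩
  have h1 : (factorThruImage η).app V.1 m = 0 ↔ η.app V.1 m = 0 := by
    have hfac : (image.ι η).app V.1 ((factorThruImage η).app V.1 m) = η.app V.1 m := by
      rw [← ConcreteCategory.comp_apply, ← Scheme.Modules.Hom.comp_app, image.fac]
    rw [← hfac]
    refine ⟨fun h => by rw [h, map_zero], fun h => ?_⟩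
    exact ModDesc.app_injective_of_mono (image.ι η) V.1 (h.trans (map_zero _).symm)
  rw [h1]
  have happ : η.app V.1 m = M.presheaf.map (homOfLE (W.ι.image_preimage_le V.1)).op m := rfl
  rw [happ]
  have he : W.ι ''ᵁ (W.ι ⁻¹ᵁ V.1) = V.1 ⊓ W := Depth.image_preimage_eq_inf W V.1
  constructor
  · intro h
    have hfg : (E.ideal V).FG := by
      haveI : IsNoetherianRing Γ(Y, V.1) := IsLocallyNoetherian.component_noetherian V
      exact IsNoetherian.noetherian _
    suffices hrad : ∀ a ∈ E.ideal V, ∃ n : ℕ, a ^ n • m = 0 by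
      let A : Ideal Γ(Y, V.1) :=
        { carrier := {r | r • m = 0}
          add_mem' := fun {r r'} (h : r • m = 0) (h' : r' • m = 0) => show (r + r') • m = 0 by
            rw [add_smul, h, h', add_zero]
          zero_mem' := zero_smul _ m
          smul_mem' := fun r r' (h : r' • m = 0) => show (r * r') • m = 0 by
            rw [mul_smul, h, smul_zero] }
      obtain ⟨n, hn⟩ := Ideal.exists_pow_le_of_le_radical_of_fg (I := E.ideal V) (J := A)
        (fun a ha => hrad a ha) hfg
      refine ⟨n, fun a ha => ?_⟩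
      rw [Scheme.IdealSheafData.ideal_pow, Pi.pow_apply] at ha
      exact hn ha
    intro a ha
    refine (QCoh.smulLift_and_smulSep_of_isAffineOpen V.2 M a).2 m ?_
    have hle : Y.basicOpen a ≤ W.ι ''ᵁ (W.ι ⁻¹ᵁ V.1) := by
      rw [he]
      exact le_inf (Y.basicOpen_le a) fun x hx hxs =>
        Set.disjoint_left.mp (GrothLib.BlowUp.disjoint_basicOpen_support ha) hx hxs
    rw [← map_map_sec M (W.ι.image_preimage_le V.1) hle m, h, map_zero]
  · rintro ⟨n, hn⟩
    refine QCoh.section_eq_zero_of_germ M _ fun x hx => ?_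
    rw [TopCat.Presheaf.germ_res_apply]
    have hxV : x ∈ V.1 ⊓ W := he ▸ hx
    have hxs : x ∉ (E.support : Set Y) := hxV.2
    rw [SetLike.mem_coe, Scheme.IdealSheafData.mem_support_iff_of_mem hxV.1, Scheme.mem_zeroLocus_iff] at hxs
    push Not at hxs
    obtain ⟨a, ha, hxa⟩ := hxs
    have hu : IsUnit (Y.presheaf.germ V.1 x hxV.1 a) := (Y.mem_basicOpen a x hxV.1).1 hxa
    refine (hu.pow n).smul_eq_zero.1 ?_
    rw [← map_pow]
    refine (PresheafOfModules.germ_smul (R := Y.presheaf) (DCoh.toP.obj M) x V.1 hxV.1 (a ^ n) m).symm.trans ?_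
    refine (congrArg _ (hn (a ^ n) ?_)).trans (map_zero _)
    rw [Scheme.IdealSheafData.ideal_pow, Pi.pow_apply]; exact Ideal.pow_mem_pow ha n

end GrothLib.ExtLocFree8
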