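import Groth.Agent.Lib.ExtLocFree8.Complement
import Groth.Agent.Lib.ExtLocFree8.Strict
import Groth.Agent.Lib.K0Sub.Localization
import Groth.Agent.Lib.FibReg5.Basic
import Groth.Agent.Lib.FittSheaf.Pullback
import Groth.Agent.Lib.AlgSp.SchDenseSp
import Groth.Agent.Lib.ProjAlg.Proper
import Groth.Agent.S8913
import Groth.Agent.S8910
import Groth.Agent.S8859
import Groth.Agent.S17887

/-!
# One step: making the extension of a locally free module locally free by a blow-up
-/

set_option autoImplicit false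
set_option linter.style.haveILetI false
set_option backward.isDefEq.respectTransparency false
set_option maxHeartbeats 1000000
universe u

open CategoryTheory CategoryTheory.Limits AlgebraicGeometry TopologicalSpace

noncomputable section

namespace GrothLib.ExtLocFree8

attribute [local instance] Abelian.hasFiniteBiproducts

variable {X Y : Scheme.{u}}

theorem additive_pullback (f : X ⟶ Y) : (Scheme.Modules.pullback f).Additive :=
  (Scheme.Modules.pullbackPushforwardAdjunction f).left_adjoint_additive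

/-- A right exact functor sends a cokernel of a map it kills to an isomorphism. -/
theorem isIso_map_of_isZero_kernel {C D : Type*} [Category C] [Category D] [Abelian C] [Abelian D]
    (L : C ⥤ D) [L.Additive] [PreservesColimitsOfShape WalkingParallelPair L] {A B : C} (π : A ⟶ B) [Epi π]
    (h : IsZero (L.obj (kernel π))) : IsIso (L.map π) := by
  let c := CokernelCofork.ofπ π (kernel.condition π)
  have hc : IsColimit c := Abelian.epiIsCokernelOfKernel (KernelFork.ofι (kernel.ι π) (kernel.condition π)) (kernelIsKernel π)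
  have hm := CokernelCofork.mapIsColimit c hc L
  exact CokernelCofork.IsColimit.isIso_π _ hm (h.eq_of_src _ _)

theorem exists_step [IsNoetherian Y] (j : X ⟶ Y) [IsOpenImmersion j] [IsSchemeTheoreticallyDominant j]
    {E : X.Modules} (hE : FlatMod.IsFinLocFree E) :
    ∃ (Y' : Scheme.{u}) (b : Y' ⟶ Y) (j' : X ⟶ Y'), RelProj.IsProjective b ∧ IsOpenImmersion j' ∧
      IsSchemeTheoreticallyDominant j' ∧ j' ≫ b = j ∧
      ∃ E' : Y'.Modules, FlatMod.IsFinLocFree E' ∧ Nonempty ((Scheme.Modules.pullback j').obj E' ≅ E) := by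
  haveI : IsLocallyNoetherian X := LocallyOfFiniteType.isLocallyNoetherian j
  haveI : CompactSpace X := QuasiCompact.compactSpace_of_compactSpace j
  haveI : IsNoetherian X := {}
  obtain ⟨N, C, hC, hNC⟩ := exists_complement hE
  obtain ⟨F₁, hF₁, ⟨e₁⟩⟩ := K0Sub.exists_extension j E (Euler.isCoh_of_isFinLocFree hE)
  obtain ⟨F₂, hF₂, ⟨e₂⟩⟩ := K0Sub.exists_extension j C hC
  let F := F₁ ⊞ F₂
  have hF : Coh.IsCoh F := QCoh.isCoh_biprod' hF₁ hF₂
  haveI : F.IsQuasicoherent := hF.1
  have hfp : CohB1.IsFP F := FibReg5.isFP_of_isCoh hF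
  haveI := additive_pullback j
  haveI := preservesBinaryBiproducts_of_preservesBiproducts (Scheme.Modules.pullback j)
  let a₁ : (Scheme.Modules.pullback j).obj F₁ ≅ E := ((Scheme.Modules.restrictFunctorIsoPullback j).app F₁).symm ≪≫ e₁
  let a₂ : (Scheme.Modules.pullback j).obj F₂ ≅ C := ((Scheme.Modules.restrictFunctorIsoPullback j).app F₂).symm ≪≫ e₂
  let aF : (Scheme.Modules.pullback j).obj F ≅ E ⊞ C :=
    (Scheme.Modules.pullback j).mapBiprod F₁ F₂ ≪≫ biprod.mapIso a₁ a₂
  -- the open and its density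
  let U := j.opensRange
  have hUι : j.isoOpensRange.inv ≫ j = U.ι := j.isoOpensRange_inv_comp
  haveI : IsSchemeTheoreticallyDominant U.ι := by rw [← hUι]; infer_instance
  haveI : QuasiCompact U.ι := inferInstance
  have hUd : CInt.IsSchematicallyDense U :=
    (AlgSp.isSchematicallyDense_iff_ker U).2 (Scheme.Hom.ker_eq_bot U.ι)
  have hfree : FlatMod.IsFinLocFreeOfRank N (F.restrict U.ι) := by
    refine OX.isFinLocFreeOfRank_of_iso ?_ (OX.isFinLocFreeOfRank_pullback j.isoOpensRange.inv hNC)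
    exact (Scheme.Modules.pullback j.isoOpensRange.inv).mapIso aF.symm ≪≫
      (Scheme.Modules.pullbackComp _ _).app F ≪≫ (Scheme.Modules.pullbackCongr hUι).app F ≪≫
      ((Scheme.Modules.restrictFunctorIsoPullback U.ι).app F).symm
  obtain ⟨hadm, hG⟩ := Groth.Agent.S8913.result Y F hfp U hUd N hfree
  obtain ⟨Y', b, hb⟩ := Groth.Agent.S8859.result Y (Fitt.sheafIdeal F N)
  have hproj := Groth.Agent.S8910.result _ hadm.1 b hb
  haveI : IsProper b := ProjAlg.isProper_of_isProjective hproj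
  haveI : IsLocallyNoetherian Y' := LocallyOfFiniteType.isLocallyNoetherian b
  haveI : CompactSpace Y' := QuasiCompact.compactSpace_of_compactSpace b
  haveI : IsNoetherian Y' := {}
  haveI := FittSheaf.isQuasicoherent_pullback b F
  obtain ⟨G, π, hπ⟩ := exists_isStrictTransform b (Fitt.sheafIdeal F N) F
  obtain ⟨hGfree, -, hker⟩ := hG Y' b hb G π hπ
  haveI : Epi π := hπ.1
  have hGlf : FlatMod.IsFinLocFree G := fun x => let ⟨W, h, h'⟩ := hGfree x; ⟨W, N, h, h'⟩
  -- the lifted immersion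
  haveI hiso : IsIso (b ∣_ U) := by
    have := GrothLib.BlowUp.isIso_off_center hb
    exact GrothLib.Nagata6.isIso_restrict_of_le b (Fitt.sheafIdeal F N).support.compl U
      fun x hx hxs => Set.disjoint_left.1 hadm.2 hxs hx
  haveI hd' : IsSchemeTheoreticallyDominant (b ⁻¹ᵁ U).ι := Groth.Agent.S17887.result U _ hadm.2 b hb
  have hU'd : CInt.IsSchematicallyDense (b ⁻¹ᵁ U) :=
    (AlgSp.isSchematicallyDense_iff_ker _).2 (Scheme.Hom.ker_eq_bot (b ⁻¹ᵁ U).ι)
  let a : X ⟶ (b ⁻¹ᵁ U : Scheme.{u}) := j.isoOpensRange.hom ≫ inv (b ∣_ U)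
  let j' := a ≫ (b ⁻¹ᵁ U).ι
  have hj' : j' ≫ b = j := by
    simp only [j', a, Category.assoc]
    rw [← morphismRestrict_ι, IsIso.inv_hom_id_assoc, Scheme.Hom.isoOpensRange_hom_ι]
  -- the idempotent
  let P' := (Scheme.Modules.pullback b).map (biprod.fst ≫ biprod.inl : F ⟶ F)
  have hdesc : kernel.ι π ≫ P' ≫ π = 0 := hom_eq_zero_of_isZero_restrict hGlf hU'd hker _
  let e' : G ⟶ G := Abelian.epiDesc π (P' ≫ π) hdesc
  have he' : π ≫ e' = P' ≫ π := Abelian.comp_epiDesc π _ hdesc
  have hidem : e' ≫ e' = e' := by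
    rw [← cancel_epi π, ← Category.assoc, he', Category.assoc, he', ← Category.assoc]
    congr 1
    simp only [P', ← Functor.map_comp, Category.assoc, biprod.inl_fst_assoc]
  obtain ⟨A, i, q, hiq, hqi⟩ := IsIdempotentComplete.idempotents_split G e' hidem
  have hA : FlatMod.IsFinLocFree A := ASBun21.isFinLocFree_of_retract i q hiq hGlf
  refine ⟨Y', b, j', hproj, inferInstance, inferInstance, hj', A, hA, ?_⟩
  haveI := additive_pullback j'
  let L := Scheme.Modules.pullback j'
  haveI : IsIso (L.map π) := by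
    refine isIso_map_of_isZero_kernel L π ?_
    exact ((Scheme.Modules.pullback a).map_isZero (hker.of_iso
      ((Scheme.Modules.restrictFunctorIsoPullback _).app (kernel π)).symm)).of_iso
      ((Scheme.Modules.pullbackComp a (b ⁻¹ᵁ U).ι).app (kernel π)).symm
  let c : Scheme.Modules.pullback b ⋙ L ≅ Scheme.Modules.pullback j :=
    Scheme.Modules.pullbackComp j' b ≪≫ Scheme.Modules.pullbackCongr hj'
  let m : L.obj G ≅ (Scheme.Modules.pullback j).obj F := (asIso (L.map π)).symm ≪≫ c.app F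
  let P := (Scheme.Modules.pullback j).map (biprod.fst ≫ biprod.inl : F ⟶ F)
  have hm : L.map e' ≫ m.hom = m.hom ≫ P := by
    simp only [m, Iso.trans_hom, Iso.symm_hom, asIso_inv, Iso.app_hom]
    rw [← cancel_epi (L.map π), Category.assoc (inv (L.map π)), IsIso.hom_inv_id_assoc, ← Category.assoc,
      ← L.map_comp, he', L.map_comp, Category.assoc, IsIso.hom_inv_id_assoc]
    exact c.hom.naturality (biprod.fst ≫ biprod.inl : F ⟶ F)
  let u₁ := (Scheme.Modules.pullback j).map (biprod.inl : F₁ ⟶ F)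
  let v₁ := (Scheme.Modules.pullback j).map (biprod.fst : F ⟶ F₁)
  have huv : u₁ ≫ v₁ = 𝟙 _ := by simp [u₁, v₁, ← Functor.map_comp]
  have hvu : v₁ ≫ u₁ = P := by simp [u₁, v₁, P]
  have hm' : m.inv ≫ L.map e' = P ≫ m.inv := by rw [← cancel_mono m.hom]; simp [hm]
  refine ⟨(⟨L.map i ≫ m.hom ≫ v₁, u₁ ≫ m.inv ≫ L.map q, ?_, ?_⟩ : L.obj A ≅ _) ≪≫ a₁⟩
  · have : L.map i ≫ L.map e' = L.map i := by
      rw [← L.map_comp, ← hqi, ← Category.assoc, hiq, Category.id_comp]
    calc (L.map i ≫ m.hom ≫ v₁) ≫ u₁ ≫ m.inv ≫ L.map q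
        = L.map i ≫ (m.hom ≫ P) ≫ m.inv ≫ L.map q := by rw [← hvu]; simp only [Category.assoc]
      _ = _ := by rw [← hm, Category.assoc, Iso.hom_inv_id_assoc, ← Category.assoc, this, ← L.map_comp, hiq, L.map_id]
  · calc (u₁ ≫ m.inv ≫ L.map q) ≫ L.map i ≫ m.hom ≫ v₁
        = u₁ ≫ (m.inv ≫ L.map e') ≫ m.hom ≫ v₁ := by rw [← hqi]; simp only [Functor.map_comp, Category.assoc]
      _ = _ := by rw [hm', ← hvu]; simp [huv, reassoc_of% huv]

end GrothLib.ExtLocFree8
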